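import Groth.Prelude.Def_W4c6modpairsegaMP
import Groth.Agent.Lib.ABU25.Basic
import Groth.Agent.Lib.Chow.Core

/-!
# Modulus pairs: interiors, schematic density, minimal morphisms
-/

set_option autoImplicit false
universe u

open CategoryTheory CategoryTheory.Limits AlgebraicGeometry Scheme

namespace GrothLib.ModPair19

variable {X Y Z : Scheme.{u}}

/-- The interior of a pulled-back modulus is the preimage of the interior. -/
theorem interior_comap (I : Y.IdealSheafData) (f : X ⟶ Y) :
    _root_.ModPair.interior (I.comap f) = f ⁻¹ᵁ _root_.ModPair.interior I := by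
  ext x
  change x ∉ ((I.comap f).support : Set X) ↔ f x ∉ (I.support : Set Y)
  rw [IdealSheafData.support_comap]
  rfl

theorem interior_mono {I J : X.IdealSheafData} (h : I ≤ J) :
    _root_.ModPair.interior I ≤ _root_.ModPair.interior J :=
  fun _ hx hJ => hx (IdealSheafData.support_antitone h hJ)

theorem interior_le_of_isAmbient {I : X.IdealSheafData} {J : Y.IdealSheafData} {f : X ⟶ Y}
    (h : _root_.ModPair.IsAmbient I J f) :
    _root_.ModPair.interior I ≤ f ⁻¹ᵁ _root_.ModPair.interior J :=
  (interior_mono h).trans (interior_comap J f).le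

theorem isLocPrincipal_comap {I : Y.IdealSheafData} (hI : _root_.HTop.IsLocPrincipal I) (f : X ⟶ Y) :
    _root_.HTop.IsLocPrincipal (I.comap f) := by
  intro x
  obtain ⟨U, hxU, a, ha⟩ := hI (f x)
  obtain ⟨V, hxV, hV⟩ := GrothLib.BlowUp.exists_affine_mem_le (W := f ⁻¹ᵁ U.1) (x := x) hxU
  exact ⟨V, hxV, f.appLE U.1 V.1 hV a, by
    rw [GrothLib.BlowUp.ideal_comap_eq_map I f U V hV, ha, Ideal.map_span, Set.image_singleton]⟩

theorem isLocPrincipal_of_eff {I : X.IdealSheafData} (hI : _root_.BlowUp.IsEffCartierIdeal I) :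
    _root_.HTop.IsLocPrincipal I := fun x => by
  obtain ⟨U, hx, a, -, ha⟩ := hI x
  exact ⟨U, hx, a, ha⟩

theorem isAffineHom_interior {I : X.IdealSheafData} (hI : _root_.BlowUp.IsEffCartierIdeal I) :
    IsAffineHom (_root_.ModPair.interior I).ι :=
  GrothLib.ABU25.isAffineHom_awayFrom I (isLocPrincipal_of_eff hI)

/-- The interior is schematically dense. -/
theorem dominant_interior {I : X.IdealSheafData} (hI : _root_.BlowUp.IsEffCartierIdeal I) :
    IsSchemeTheoreticallyDominant (_root_.ModPair.interior I).ι := by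
  haveI := isAffineHom_interior hI
  refine ⟨IdealSheafData.ext (funext fun U => ?_)⟩
  rw [Scheme.Hom.ker_apply, IdealSheafData.ideal_bot, eq_comm, Pi.bot_apply, eq_comm, eq_bot_iff]
  intro s hs
  exact GrothLib.ABU25.eq_zero_of_effCartier hI s (RingHom.mem_ker.1 hs)

/-- A locally principal ideal with schematically dense complement is effective Cartier. -/
theorem eff_of_dominant {I : X.IdealSheafData} (hI : _root_.HTop.IsLocPrincipal I)
    (hd : IsSchemeTheoreticallyDominant (_root_.ModPair.interior I).ι) :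
    _root_.BlowUp.IsEffCartierIdeal I := by
  have h0 : _root_.HTop.supportedOn I = ⊥ := hd.ker_eq_bot
  have : IsIso (_root_.HTop.supportedOn I).subschemeι := by
    rw [IsClosedImmersion.isIso_iff_ker_eq_bot, IdealSheafData.ker_subschemeι, h0]
  have h := GrothLib.BlowUp.isEffCartierIdeal_comap_of_flat
    (inv (_root_.HTop.supportedOn I).subschemeι) (GrothLib.ABU25.isEffCartier_comap_supportedOn I hI)
  rwa [← IdealSheafData.comap_comp, IsIso.inv_hom_id, IdealSheafData.comap_id] at h

/-- Morphisms to a separated scheme that agree on the interior are equal. -/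
theorem ext_of_interior {I : X.IdealSheafData} (hI : _root_.BlowUp.IsEffCartierIdeal I)
    (g : Y ⟶ Z) [IsSeparated g] {a b : X ⟶ Y} (hab : a ≫ g = b ≫ g)
    (h : (_root_.ModPair.interior I).ι ≫ a = (_root_.ModPair.interior I).ι ≫ b) : a = b :=
  haveI := dominant_interior hI
  GrothLib.Chow.ext_of_stdDominant (_root_.ModPair.interior I).ι g hab h

/-- A base change of a morphism invertible over `V` is invertible over opens mapping into `V`. -/
theorem isIso_pullback_fst_restrict (f : X ⟶ Z) (s : Y ⟶ Z) {U : X.Opens} {V : Z.Opens}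
    (hUV : U ≤ f ⁻¹ᵁ V) [IsIso (s ∣_ V)] : IsIso (pullback.fst f s ∣_ U) := by
  let p := pullback.fst f s
  let g : (U : Scheme.{u}) ⟶ V := X.homOfLE hUV ≫ (f ∣_ V)
  have hg : g ≫ V.ι = U.ι ≫ f := by simp [g]
  have h1 := (isPullback_morphismRestrict p U).flip.paste_horiz (IsPullback.of_hasPullback f s).flip
  rw [← hg] at h1
  have h2 := IsPullback.of_right' h1 (isPullback_morphismRestrict s V).flip
  exact MorphismProperty.of_isPullback (P := MorphismProperty.isomorphisms Scheme.{u}) h2
    (inferInstanceAs (IsIso (s ∣_ V)))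

/-- The inclusion of the closure of an open is invertible over the open. -/
theorem isIso_supportedOn_restrict (I : X.IdealSheafData) :
    IsIso ((_root_.HTop.supportedOn I).subschemeι ∣_ _root_.HTop.awayFrom I) := by
  let O := _root_.HTop.awayFrom I
  let j := (_root_.HTop.supportedOn I).subschemeι
  let l : (O : Scheme.{u}) ⟶ (_root_.HTop.supportedOn I).subscheme :=
    IsClosedImmersion.lift j O.ι (by rw [IdealSheafData.ker_subschemeι]; rfl)
  have hl : l ≫ j = 𝟙 _ ≫ O.ι := (IsClosedImmersion.lift_fac _ _ _).trans (Category.id_comp _).symm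
  let σ := (isPullback_morphismRestrict j O).lift (𝟙 _) l hl.symm
  haveI : IsSplitEpi (j ∣_ O) := IsSplitEpi.mk' ⟨σ, (isPullback_morphismRestrict j O).lift_fst _ _ _⟩
  exact isIso_of_mono_of_isSplitEpi (j ∣_ O)

/-- Invertibility over an open passes to smaller opens. -/
theorem isIso_restrict_comp (j : X ⟶ Y) (p : Y ⟶ Z) (U : Z.Opens) [IsIso (p ∣_ U)]
    [IsIso (j ∣_ p ⁻¹ᵁ U)] : IsIso ((j ≫ p) ∣_ U) := by
  rw [morphismRestrict_comp]
  exact IsIso.comp_isIso' (f := j ∣_ p ⁻¹ᵁ U) (h := p ∣_ U) inferInstance inferInstance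

end GrothLib.ModPair19
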