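import Groth.Agent.Lib.ModPair19.Basic
import Groth.Agent.Lib.RelDiv.Cancel

/-!
# Modulus pairs: closures of opens, the space of the ambient product
-/

set_option autoImplicit false
universe u

open CategoryTheory CategoryTheory.Limits AlgebraicGeometry Scheme

namespace GrothLib.ModPair19

variable {X Y Z S T W : Scheme.{u}}

theorem interior_mul (I J : X.IdealSheafData) :
    _root_.ModPair.interior (I * J) = _root_.ModPair.interior I ⊓ _root_.ModPair.interior J := by
  ext x
  change x ∉ ((I * J).support : Set X) ↔ x ∉ (I.support : Set X) ∧ x ∉ (J.support : Set X)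
  rw [IdealSheafData.support_mul, TopologicalSpace.Closeds.coe_sup, Set.mem_union, not_or]

theorem interior_eq_top_iff {I : X.IdealSheafData} : _root_.ModPair.interior I = ⊤ ↔ I = ⊤ := by
  rw [← IdealSheafData.support_eq_bot_iff]
  constructor
  · intro h
    refine SetLike.coe_injective (Set.eq_empty_iff_forall_notMem.2 fun x hx => ?_)
    exact (h.ge (show x ∈ (⊤ : X.Opens) from trivial)) hx
  · intro h
    ext x
    change x ∉ (I.support : Set X) ↔ x ∈ Set.univ
    simp [h]

theorem comap_ι_interior (I : X.IdealSheafData) :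
    I.comap (_root_.ModPair.interior I).ι = ⊤ := by
  rw [← interior_eq_top_iff, interior_comap, Scheme.Opens.ι_preimage_self]

theorem isLocPrincipal_mul {I J : X.IdealSheafData} (hI : _root_.HTop.IsLocPrincipal I)
    (hJ : _root_.HTop.IsLocPrincipal J) : _root_.HTop.IsLocPrincipal (I * J) := by
  intro x
  obtain ⟨U, hxU, a, ha⟩ := hI x
  obtain ⟨U', hxU', b, hb⟩ := hJ x
  obtain ⟨V, hxV, hV⟩ := GrothLib.BlowUp.exists_affine_mem_le (W := U.1 ⊓ U'.1) (x := x) ⟨hxU, hxU'⟩
  have h1 : V.1 ≤ U.1 := hV.trans inf_le_left
  have h2 : V.1 ≤ U'.1 := hV.trans inf_le_right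
  refine ⟨V, hxV, X.presheaf.map (homOfLE h1).op a * X.presheaf.map (homOfLE h2).op b, ?_⟩
  rw [IdealSheafData.ideal_mul, Pi.mul_apply, ← I.map_ideal (U := V) (V := U) h1,
    ← J.map_ideal (U := V) (V := U') h2, ha, hb, Ideal.map_span, Ideal.map_span, Set.image_singleton,
    Set.image_singleton, Ideal.span_singleton_mul_span_singleton]
  rfl

/-- The ideal restricted to the closure of its interior is effective Cartier. -/
theorem eff_closure {K : X.IdealSheafData} (hK : _root_.HTop.IsLocPrincipal K) {O : X.Opens}
    (hO : O = _root_.ModPair.interior K) : _root_.BlowUp.IsEffCartierIdeal (K.comap O.ι.imageι) := by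
  subst hO
  exact GrothLib.ABU25.isEffCartier_comap_supportedOn K hK

theorem isIso_closure_restrict {K : X.IdealSheafData} {O : X.Opens}
    (hO : O = _root_.ModPair.interior K) : IsIso (O.ι.imageι ∣_ O) := by
  subst hO
  exact isIso_supportedOn_restrict K

/-- A morphism whose interior lands in an open factors through the closure of that open. -/
theorem ker_le_of_interior {I : W.IdealSheafData} (hI : _root_.BlowUp.IsEffCartierIdeal I) (O : X.Opens)
    (l : W ⟶ X) (h : _root_.ModPair.interior I ≤ l ⁻¹ᵁ O) : O.ι.ker ≤ l.ker := by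
  haveI := dominant_interior hI
  have e : (W.homOfLE h ≫ (l ∣_ O)) ≫ O.ι = (_root_.ModPair.interior I).ι ≫ l := by simp
  refine (Scheme.Hom.le_ker_comp (W.homOfLE h ≫ (l ∣_ O)) O.ι).trans ?_
  rw [e, Scheme.Hom.ker_comp, Scheme.Hom.ker_eq_bot, IdealSheafData.map_bot]

/-- The closure of an open through which a dominant morphism factors is everything. -/
theorem isIso_imageι_of_dominant (O : X.Opens) [IsSchemeTheoreticallyDominant O.ι] : IsIso O.ι.imageι := by
  rw [IsClosedImmersion.isIso_iff_ker_eq_bot, Scheme.Hom.imageι, IdealSheafData.ker_subschemeι,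
    Scheme.Hom.ker_eq_bot]

section mprod

variable (f : X ⟶ S) (g : T ⟶ S) (I : X.IdealSheafData) (J : T.IdealSheafData)

theorem prodInterior_eq :
    _root_.ModPair.prodInterior f g I J =
      _root_.ModPair.interior (I.comap (pullback.fst f g) * J.comap (pullback.snd f g)) := by
  rw [interior_mul, interior_comap, interior_comap]
  rfl

variable (hI : _root_.BlowUp.IsEffCartierIdeal I) (hJ : _root_.BlowUp.IsEffCartierIdeal J)
include hI hJ

/-- Both moduli pull back to effective Cartier ideals on the space of the product. -/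
theorem eff_mprod :
    _root_.BlowUp.IsEffCartierIdeal (I.comap (_root_.ModPair.mprodι f g I J ≫ pullback.fst f g)) ∧
      _root_.BlowUp.IsEffCartierIdeal (J.comap (_root_.ModPair.mprodι f g I J ≫ pullback.snd f g)) := by
  have h := eff_closure (isLocPrincipal_mul (isLocPrincipal_comap (isLocPrincipal_of_eff hI) (pullback.fst f g))
    (isLocPrincipal_comap (isLocPrincipal_of_eff hJ) (pullback.snd f g))) (prodInterior_eq f g I J)
  rw [GrothLib.BlowUp.comap_mul, ← IdealSheafData.comap_comp, ← IdealSheafData.comap_comp] at h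
  exact GrothLib.BlowUp.isEffCartierIdeal_factors_of_mul h

omit hI hJ in
theorem isIso_mprodι_restrict :
    IsIso (_root_.ModPair.mprodι f g I J ∣_ _root_.ModPair.prodInterior f g I J) :=
  isIso_closure_restrict (prodInterior_eq f g I J)

end mprod

end GrothLib.ModPair19
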