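import Groth.Agent.Lib.ModPair19.Closure

/-!
# Modulus pairs: closures of closed subschemes of the interior
-/

set_option autoImplicit false
universe u

open CategoryTheory CategoryTheory.Limits AlgebraicGeometry Scheme

namespace GrothLib.ModPair19

variable {V X : Scheme.{u}}

theorem dominant_of_comp {A B C : Scheme.{u}} (l : A ⟶ B) (i : B ⟶ C)
    [IsSchemeTheoreticallyDominant (l ≫ i)] : IsSchemeTheoreticallyDominant i :=
  ⟨le_bot_iff.1 ((Scheme.Hom.le_ker_comp l i).trans (Scheme.Hom.ker_eq_bot (l ≫ i)).le)⟩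

/-- The ideal is effective Cartier on closures of schemes mapping to the interior. -/
theorem eff_image {K : X.IdealSheafData} (hK : _root_.HTop.IsLocPrincipal K) (f : V ⟶ X) [QuasiCompact f]
    (hf : Set.range f ⊆ _root_.ModPair.interior K) : _root_.BlowUp.IsEffCartierIdeal (K.comap f.imageι) := by
  refine eff_of_dominant (isLocPrincipal_comap hK _) ?_
  have hr : Set.range f.toImage ⊆ Set.range (_root_.ModPair.interior (K.comap f.imageι)).ι := by
    rintro _ ⟨v, rfl⟩
    rw [Scheme.Opens.range_ι, interior_comap]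
    have h : f.imageι (f.toImage v) = f v := by rw [← Scheme.Hom.comp_apply, f.toImage_imageι]
    exact (h.symm ▸ hf ⟨v, rfl⟩ : f.imageι (f.toImage v) ∈ _root_.ModPair.interior K)
  haveI := GrothLib.Chow.stdDominant_toImage f
  haveI : IsSchemeTheoreticallyDominant
      (IsOpenImmersion.lift (_root_.ModPair.interior (K.comap f.imageι)).ι f.toImage hr ≫
        (_root_.ModPair.interior (K.comap f.imageι)).ι) := by
    rw [IsOpenImmersion.lift_fac]; infer_instance
  exact dominant_of_comp (IsOpenImmersion.lift (_root_.ModPair.interior (K.comap f.imageι)).ι f.toImage hr) _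

/-- A closed subscheme of an open is open in its closure, cut out by the open. -/
theorem toImage_of_closed {U : X.Opens} (g : V ⟶ U) [IsClosedImmersion g] [QuasiCompact (g ≫ U.ι)] :
    IsOpenImmersion (g ≫ U.ι).toImage ∧
      Set.range (g ≫ U.ι).toImage = (g ≫ U.ι).imageι ⁻¹' (U : Set X) := by
  let f := g ≫ U.ι
  let O := f.imageι ⁻¹ᵁ U
  let l : V ⟶ (O : Scheme.{u}) :=
    (isPullback_morphismRestrict f.imageι U).lift g f.toImage f.toImage_imageι.symm
  have hl1 : l ≫ (f.imageι ∣_ U) = g := (isPullback_morphismRestrict f.imageι U).lift_fst _ _ _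
  have hl2 : l ≫ O.ι = f.toImage := (isPullback_morphismRestrict f.imageι U).lift_snd _ _ _
  haveI : IsClosedImmersion (l ≫ (f.imageι ∣_ U)) := by rw [hl1]; infer_instance
  haveI : IsClosedImmersion l := IsClosedImmersion.of_comp l (f.imageι ∣_ U)
  haveI := GrothLib.Chow.stdDominant_toImage f
  have hrange : f.toImage ⁻¹ᵁ O = ⊤ := by
    ext v
    refine ⟨fun _ => trivial, fun _ => ?_⟩
    change f.toImage v ∈ (O : Set _)
    rw [← hl2, Scheme.Hom.comp_apply]
    exact (l v).2
  have sq : IsPullback l (𝟙 V) O.ι f.toImage := by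
    refine IsOpenImmersion.isPullback _ _ _ _ (by simp [hl2]) ?_
    rw [Scheme.Opens.opensRange_ι, hrange, Scheme.Hom.opensRange_of_isIso]
  haveI : QuasiCompact f.toImage := inferInstance
  haveI : IsSchemeTheoreticallyDominant l := IsSchemeTheoreticallyDominant.of_isPullback sq.flip
  haveI : IsIso l := IsClosedImmersion.isIso_iff_ker_eq_bot.2 (Scheme.Hom.ker_eq_bot l)
  refine ⟨by rw [← hl2]; infer_instance, ?_⟩
  rw [← hl2, Scheme.Hom.comp_base, TopCat.coe_comp, Set.range_comp,
    (Set.range_eq_univ.2 l.homeomorph.surjective : Set.range l = Set.univ), Set.image_univ, Scheme.Opens.range_ι]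
  rfl

end GrothLib.ModPair19
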